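import Groth.Agent.FormalVersal.Residue
import Groth.Agent.FlatLocal.LocalPoints
import Mathlib.AlgebraicGeometry.ResidueField

/-!
# Lifting with finite residue extensions from lifting with trivial residue extensions
-/

set_option autoImplicit false
set_option backward.isDefEq.respectTransparency.types false
universe u

namespace Groth.Agent.FormalVersal

open CategoryTheory AlgebraicGeometry

/-- Evaluation of `R` in the residue field of a point of `Spec R`. -/
noncomputable def evPt (R : CommRingCat.{u}) (x : Spec R) : R →+* (Spec R).residueField x :=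
  ((Scheme.ΓSpecIso R).inv ≫ (Spec R).Γevaluation x).hom

theorem evPt_surjective (R : CommRingCat.{u}) (x : Spec R) [x.asIdeal.IsMaximal] :
    Function.Surjective (evPt R x) := by
  have h : (Scheme.ΓSpecIso R).inv ≫ (Spec R).Γevaluation x =
      CommRingCat.ofHom (algebraMap R x.asIdeal.ResidueField) ≫ (Scheme.Spec.residueFieldIso R x).inv := by
    rw [Scheme.Spec.algebraMap_residueFieldIso_inv]; rfl
  intro y
  obtain ⟨r, hr⟩ := x.asIdeal.algebraMap_residueField_surjective ((Scheme.Spec.residueFieldIso R x).hom y)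
  refine ⟨r, ?_⟩
  show ((Scheme.ΓSpecIso R).inv ≫ (Spec R).Γevaluation x) r = y
  rw [h]
  show (Scheme.Spec.residueFieldIso R x).inv (algebraMap R x.asIdeal.ResidueField r) = y
  rw [hr, ← CommRingCat.comp_apply, Iso.hom_inv_id]
  rfl

theorem residueFieldMap_evPt {R S : CommRingCat.{u}} (φ : R ⟶ S) (x : Spec S) (r : R) :
    (Spec.map φ).residueFieldMap x (evPt R (Spec.map φ x) r) = evPt S x (φ r) := by
  show (Spec.map φ).residueFieldMap x ((Spec R).Γevaluation _ ((Scheme.ΓSpecIso R).inv r)) = _
  rw [Scheme.Γevaluation_naturality_apply, ← CommRingCat.comp_apply (Scheme.ΓSpecIso R).inv,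
    ← Scheme.ΓSpecIso_inv_naturality]
  rfl

theorem exists_residueFieldMap_eq {X Y Z : Scheme.{u}} {p : X ⟶ Y} {q : Y ⟶ Z} {f : X ⟶ Z}
    (h : p ≫ q = f) (x : X) (z : Z.residueField (f x)) :
    ∃ z', p.residueFieldMap x (q.residueFieldMap (p x) z') = f.residueFieldMap x z := by
  subst h
  exact ⟨z, by rw [Scheme.residueFieldMap_comp]; rfl⟩

theorem closedPoint_isMaximal (R : Type u) [CommRing R] [IsLocalRing R] :
    (IsLocalRing.closedPoint R : PrimeSpectrum R).asIdeal.IsMaximal :=
  IsLocalRing.maximalIdeal.isMaximal R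

/-- If lifting along surjections of Artinian local rings holds for trivial residue extensions at `t`,
then it holds for finite residue extensions. -/
theorem lift_finite_residue {S T : Scheme.{u}} (g : T ⟶ S) (t : T)
    (hT : ∀ (C C' : Type u) [CommRing C] [CommRing C'] [IsLocalRing C] [IsLocalRing C'] [IsArtinianRing C]
        [IsArtinianRing C'] (π : C' →+* C), Function.Surjective π →
        ∀ (a : Spec (CommRingCat.of C) ⟶ T) (b : Spec (CommRingCat.of C') ⟶ S),
          a (IsLocalRing.closedPoint C) = t →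
          Function.Surjective (a.residueFieldMap (IsLocalRing.closedPoint C)).hom →
          Spec.map (CommRingCat.ofHom π) ≫ b = a ≫ g →
          ∃ c : Spec (CommRingCat.of C') ⟶ T, Spec.map (CommRingCat.ofHom π) ≫ c = a ∧ c ≫ g = b)
    (C C' : Type u) [CommRing C] [CommRing C'] [IsLocalRing C] [IsLocalRing C'] [IsArtinianRing C]
    [IsArtinianRing C'] (π : C' →+* C) (hπ : Function.Surjective π)
    (a : Spec (CommRingCat.of C) ⟶ T) (b : Spec (CommRingCat.of C') ⟶ S)
    (ha : a (IsLocalRing.closedPoint C) = t)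
    (hfin : (a.residueFieldMap (IsLocalRing.closedPoint C)).hom.Finite)
    (hsq : Spec.map (CommRingCat.ofHom π) ≫ b = a ≫ g) :
    ∃ c : Spec (CommRingCat.of C') ⟶ T, Spec.map (CommRingCat.ofHom π) ≫ c = a ∧ c ≫ g = b := by
  obtain ⟨W, hW, htW, -⟩ := exists_isAffineOpen_mem_and_subset (x := g t) (U := ⊤) trivial
  obtain ⟨V, hV, htV, e : V ≤ g ⁻¹ᵁ W⟩ :=
    exists_isAffineOpen_mem_and_subset (x := t) (U := g ⁻¹ᵁ W) htW
  obtain ⟨ψ, rfl⟩ := FlatLocal.exists_eq_SpecMap_fromSpec hV C a (ha ▸ htV)
  have hb : b (IsLocalRing.closedPoint C') ∈ W := by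
    rw [← FlatLocal.closedPoint_SpecMap_of_surjective π hπ, ← Scheme.Hom.comp_apply, hsq,
      Scheme.Hom.comp_apply, ha]
    exact htW
  obtain ⟨χ, rfl⟩ := FlatLocal.exists_eq_SpecMap_fromSpec hW C' b hb
  have hχ : χ ≫ CommRingCat.ofHom π = g.appLE W V e ≫ ψ := by
    rw [← Spec.map_inj, ← cancel_mono hW.fromSpec, Spec.map_comp, Spec.map_comp, Category.assoc,
      Category.assoc, IsAffineOpen.SpecMap_appLE_fromSpec g hW hV e, hsq, Category.assoc]
  let xC : Spec (CommRingCat.of C) := IsLocalRing.closedPoint C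
  haveI : xC.asIdeal.IsMaximal := closedPoint_isMaximal C
  let ev : C →+* (Spec (CommRingCat.of C)).residueField xC := evPt (CommRingCat.of C) xC
  have hev : Function.Surjective ev := evPt_surjective _ _
  let j := ((Spec.map ψ).residueFieldMap xC).hom
  have hj : j.Finite := by
    have h : (((Spec.map ψ).residueFieldMap xC).hom.comp
        (hV.fromSpec.residueFieldMap (Spec.map ψ xC)).hom).Finite := by
      have := hfin
      rw [Scheme.residueFieldMap_comp] at this
      exact this
    exact RingHom.Finite.of_comp_finite h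
  have hψ : ∀ r, ev (ψ r) ∈ j.fieldRange := fun r => ⟨_, residueFieldMap_evPt ψ xC r⟩
  haveI hDl := isLocalRing ev hev j
  haveI hDa := isArtinianRing ev hev j hj
  have hev' : Function.Surjective (ev.comp π) := hev.comp hπ
  haveI hDl' := isLocalRing (ev.comp π) hev' j
  haveI hDa' := isArtinianRing (ev.comp π) hev' j hj
  let D := j.fieldRange.toSubring.comap ev
  let D' := j.fieldRange.toSubring.comap (ev.comp π)
  let πD : D' →+* D := (π.comp D'.subtype).codRestrict D fun x => x.2
  have hπD : Function.Surjective πD := fun x => by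
    obtain ⟨y, hy⟩ := hπ x.1
    refine ⟨⟨y, ?_⟩, Subtype.ext hy⟩
    show ev (π y) ∈ j.fieldRange
    rw [hy]; exact x.2
  let ψD : Γ(T, V) ⟶ CommRingCat.of D := CommRingCat.ofHom (ψ.hom.codRestrict D hψ)
  let χD : Γ(S, W) ⟶ CommRingCat.of D' := CommRingCat.ofHom (χ.hom.codRestrict D' fun r => by
    show ev (π (χ r)) ∈ j.fieldRange
    rw [show π (χ r) = ψ (g.appLE W V e r) from congr($hχ r)]
    exact hψ _)
  let iD : CommRingCat.of D ⟶ CommRingCat.of C := CommRingCat.ofHom D.subtype
  let iD' : CommRingCat.of D' ⟶ CommRingCat.of C' := CommRingCat.ofHom D'.subtype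
  have hψD : ψD ≫ iD = ψ := CommRingCat.hom_ext (RingHom.ext fun r => rfl)
  have hχD : χD ≫ iD' = χ := CommRingCat.hom_ext (RingHom.ext fun r => rfl)
  haveI : IsLocalHom D.subtype := ⟨fun x hx => (isUnit_sub_iff ev hev j x).mpr ((isUnit_iff ev hev _).mp hx)⟩
  let xD : Spec (CommRingCat.of D) := IsLocalRing.closedPoint D
  have hx : Spec.map iD xC = xD := IsLocalRing.comap_closedPoint D.subtype
  have hsurj : Function.Surjective ((Spec.map ψD).residueFieldMap (Spec.map iD xC)).hom := by
    haveI : (Spec.map iD xC).asIdeal.IsMaximal := by rw [hx]; exact closedPoint_isMaximal D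
    intro y
    obtain ⟨d, rfl⟩ := evPt_surjective (CommRingCat.of D) (Spec.map iD xC) y
    obtain ⟨z, hz⟩ := (d.2 : ev d.1 ∈ j.fieldRange)
    obtain ⟨z', hz'⟩ := exists_residueFieldMap_eq (p := Spec.map iD) (q := Spec.map ψD)
      (f := Spec.map ψ) (by rw [← Spec.map_comp, hψD]) xC z
    refine ⟨z', ((Spec.map iD).residueFieldMap xC).hom.injective ?_⟩
    exact hz'.trans (hz.trans (residueFieldMap_evPt iD xC d).symm)
  obtain ⟨c, hc₁, hc₂⟩ := hT D D' πD hπD (Spec.map ψD ≫ hV.fromSpec) (Spec.map χD ≫ hW.fromSpec)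
    (by
      show (Spec.map ψD ≫ hV.fromSpec) xD = t
      rw [← hx, ← Scheme.Hom.comp_apply, ← Spec.map_comp_assoc, hψD]; exact ha)
    (by
      show Function.Surjective ((Spec.map ψD ≫ hV.fromSpec).residueFieldMap xD).hom
      rw [← hx, Scheme.residueFieldMap_comp]
      exact hsurj.comp (ConcreteCategory.bijective_of_isIso (hV.fromSpec.residueFieldMap _)).2)
    (by
      rw [Category.assoc, ← IsAffineOpen.SpecMap_appLE_fromSpec g hW hV e, ← Spec.map_comp_assoc,
        ← Spec.map_comp_assoc]
      congr 2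
      refine CommRingCat.hom_ext (RingHom.ext fun r => Subtype.ext ?_)
      exact congr($hχ r))
  refine ⟨Spec.map iD' ≫ c, ?_, ?_⟩
  · have : iD' ≫ CommRingCat.ofHom π = CommRingCat.ofHom πD ≫ iD := CommRingCat.hom_ext (RingHom.ext fun r => rfl)
    rw [← Spec.map_comp_assoc, this, Spec.map_comp_assoc, hc₁, ← Spec.map_comp_assoc, hψD]
  · rw [Category.assoc, hc₂, ← Spec.map_comp_assoc, hχD]

end Groth.Agent.FormalVersal
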