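import Groth.Agent.FlatCrit.Inj
import Mathlib.RingTheory.Noetherian.OfPrime
import Mathlib.RingTheory.HopkinsLevitzki
import Mathlib.RingTheory.Artinian.Ring

/-!
# Subrings of Artinian local rings cut out by a subfield of the residue field
-/

set_option autoImplicit false
universe u

namespace Groth.Agent.FormalVersal

variable {C κ k₀ : Type u} [CommRing C] [IsLocalRing C] [Field κ] [Field k₀]

theorem mem_maximal_iff (ev : C →+* κ) (hev : Function.Surjective ev) (x : C) :
    x ∈ IsLocalRing.maximalIdeal C ↔ ev x = 0 := by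
  haveI := IsLocalRing.eq_maximalIdeal (RingHom.ker_isMaximal_of_surjective ev hev)
  rw [← this, RingHom.mem_ker]

theorem isUnit_iff (ev : C →+* κ) (hev : Function.Surjective ev) (x : C) : IsUnit x ↔ ev x ≠ 0 := by
  rw [← not_iff_not, not_not, ← mem_maximal_iff ev hev]; rfl

theorem isUnit_sub_iff (ev : C →+* κ) (hev : Function.Surjective ev) (j : k₀ →+* κ)
    (x : j.fieldRange.toSubring.comap ev) : IsUnit x ↔ ev (x : C) ≠ 0 := by
  refine ⟨fun h => (isUnit_iff ev hev _).mp (h.map (j.fieldRange.toSubring.comap ev).subtype), fun h => ?_⟩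
  obtain ⟨y, hy⟩ := ((isUnit_iff ev hev _).mpr h).exists_right_inv
  have hymem : y ∈ j.fieldRange.toSubring.comap ev := by
    show ev y ∈ j.fieldRange
    have : ev y = (ev (x : C))⁻¹ := eq_inv_of_mul_eq_one_right (by rw [← map_mul, hy, map_one])
    rw [this]; exact j.fieldRange.inv_mem x.2
  exact isUnit_iff_exists_inv.mpr ⟨⟨y, hymem⟩, Subtype.ext hy⟩

theorem isLocalRing (ev : C →+* κ) (hev : Function.Surjective ev) (j : k₀ →+* κ) :
    IsLocalRing (j.fieldRange.toSubring.comap ev) := by
  refine IsLocalRing.of_isUnit_or_isUnit_one_sub_self fun a => ?_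
  rw [isUnit_sub_iff ev hev j, isUnit_sub_iff ev hev j, ← not_and_or]
  rintro ⟨h1, h2⟩
  simp [map_sub, h1] at h2

theorem isArtinianRing (ev : C →+* κ) (hev : Function.Surjective ev) (j : k₀ →+* κ) (hj : j.Finite)
    [IsArtinianRing C] : IsArtinianRing (j.fieldRange.toSubring.comap ev) := by
  let D := j.fieldRange.toSubring.comap ev
  haveI : IsLocalRing D := isLocalRing ev hev j
  have hm : ∀ x : D, x ∈ IsLocalRing.maximalIdeal D ↔ ev (x : C) = 0 := fun x => by
    rw [IsLocalRing.mem_maximalIdeal, mem_nonunits_iff, isUnit_sub_iff ev hev j, not_not]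
  obtain ⟨n, hn⟩ := IsArtinianRing.isNilpotent_jacobson_bot (R := C)
  rw [IsLocalRing.jacobson_eq_maximalIdeal ⊥ bot_ne_top] at hn
  have hnil : IsNilpotent (IsLocalRing.maximalIdeal D) := by
    refine ⟨n, ?_⟩
    rw [Ideal.zero_eq_bot, eq_bot_iff]
    intro x hx
    have h1 := Ideal.mem_map_of_mem D.subtype hx
    rw [Ideal.map_pow] at h1
    have h2 : Ideal.map D.subtype (IsLocalRing.maximalIdeal D) ≤ IsLocalRing.maximalIdeal C :=
      Ideal.map_le_iff_le_comap.mpr fun y hy => (mem_maximal_iff ev hev _).mpr ((hm y).mp hy)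
    have h3 := Ideal.pow_right_mono h2 n h1
    rw [hn] at h3
    exact Subtype.ext h3
  letI := j.toAlgebra
  haveI : Module.Finite k₀ κ := hj
  haveI hfin : Module.Finite D C := by
    obtain ⟨t, ht⟩ := (Module.finite_def.mp ‹Module.Finite k₀ κ›)
    classical
    choose lift hlift using hev
    refine ⟨⟨t.image lift, Groth.Agent.FlatCrit.submodule_eq_top_of_nilpotent hnil _ ?_⟩⟩
    rw [eq_top_iff]
    rintro x -
    have hx : ev x ∈ Submodule.span k₀ (t : Set κ) := ht ▸ trivial
    rw [Submodule.mem_span_finset] at hx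
    obtain ⟨c, -, hc⟩ := hx
    have hd : ∀ i : κ, lift (j (c i)) ∈ D := fun i => by
      show ev (lift (j (c i))) ∈ j.fieldRange
      rw [hlift]; exact ⟨c i, rfl⟩
    let y := ∑ i ∈ t, (⟨_, hd i⟩ : D) • lift i
    have hz : ev (x - y) = 0 := by
      rw [map_sub, map_sum, ← hc, sub_eq_zero]
      refine Finset.sum_congr rfl fun i _ => ?_
      show c i • i = ev (lift (j (c i)) * lift i)
      rw [map_mul, hlift, hlift]
      rfl
    have hzD : x - y ∈ D := by
      show ev (x - y) ∈ j.fieldRange
      rw [hz]; exact zero_mem _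
    rw [← sub_add_cancel x y]
    refine Submodule.add_mem _ ?_ (Submodule.mem_sup_left (Submodule.sum_mem _ fun i hi =>
      Submodule.smul_mem _ _ (Submodule.subset_span (Finset.mem_image_of_mem lift hi))))
    refine Submodule.mem_sup_right ?_
    have := Submodule.smul_mem_smul ((hm ⟨_, hzD⟩).mpr hz) (Submodule.mem_top (R := D) (x := (1 : C)))
    simpa [Subring.smul_def] using this
  have hfg : (IsLocalRing.maximalIdeal D).FG := by
    obtain ⟨s, hs⟩ := (IsNoetherian.noetherian (IsLocalRing.maximalIdeal C) : (IsLocalRing.maximalIdeal C).FG)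
    let φ : IsLocalRing.maximalIdeal D →ₗ[D] C := (Algebra.linearMap D C).comp (Submodule.subtype _)
    have hr : LinearMap.range φ = (IsLocalRing.maximalIdeal C).restrictScalars D := by
      ext x
      constructor
      · rintro ⟨y, rfl⟩; exact (mem_maximal_iff ev hev _).mpr ((hm y.1).mp y.2)
      · intro hx
        have h0 := (mem_maximal_iff ev hev x).mp hx
        have hxD : x ∈ D := by
          show ev x ∈ j.fieldRange
          rw [h0]; exact zero_mem _
        exact ⟨⟨⟨x, hxD⟩, (hm _).mpr h0⟩, rfl⟩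
    have hfg' : ((IsLocalRing.maximalIdeal C).restrictScalars D).FG :=
      Submodule.FG.restrictScalars ⟨s, hs⟩
    have hinj : Function.Injective φ := fun a b e => Subtype.ext (Subtype.ext e)
    haveI : Module.Finite D (LinearMap.range φ) := Module.Finite.iff_fg.mpr (hr ▸ hfg')
    haveI := Module.Finite.equiv (LinearEquiv.ofInjective φ hinj).symm
    exact Module.Finite.iff_fg.mp this
  have hprime : ∀ I : Ideal D, I.IsPrime → I = IsLocalRing.maximalIdeal D := fun I hI =>
    le_antisymm (IsLocalRing.le_maximalIdeal hI.ne_top) (by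
      obtain ⟨n, hn⟩ := hnil
      exact hI.le_of_pow_le (n := n) (hn ▸ bot_le))
  haveI : IsNoetherianRing D := IsNoetherianRing.of_prime fun I hI => hprime I hI ▸ hfg
  haveI : Ring.KrullDimLE 0 D := Ring.KrullDimLE.mk₀ fun I hI => hprime I hI ▸ IsLocalRing.maximalIdeal.isMaximal D
  exact IsNoetherianRing.isArtinianRing_of_krullDimLE_zero

end Groth.Agent.FormalVersal
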